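import Cfsg.Agent.Lib.CosetEnum.Simple
import Cfsg.Prelude.Def_Spor_J2

/-!
Point stabilisers are maximal when no union of suborbits has admissible size, and restriction of
actions to invariant sets of points.
-/

set_option autoImplicit false

namespace Cfsg.Agent.Lib.G24J2

open Cfsg.Agent.Lib.CosetEnum

variable {Y : Type*} [Group Y]

/-- The stabiliser of a point. -/
def stab {n : ℕ} (ψ : Y →* Equiv.Perm (Fin n)) (x : Fin n) : Subgroup Y :=
  (MulAction.stabilizer (Equiv.Perm (Fin n)) x).comap ψ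

theorem mem_stab {n : ℕ} {ψ : Y →* Equiv.Perm (Fin n)} {x : Fin n} {a : Y} :
    a ∈ stab ψ x ↔ ψ a x = x := Iff.rfl

theorem index_stab {n : ℕ} (ψ : Y →* Equiv.Perm (Fin n)) (x₀ : Fin n)
    (htr : ∀ x, ∃ g, ψ g x₀ = x) : (stab ψ x₀).index = n := by
  rw [Subgroup.index, Nat.card_congr (cosetEquiv ψ x₀ (fun g => mem_stab) htr), Nat.card_fin]

/-- A primitive transitive action: point stabilisers are maximal. -/
theorem isCoatom_stab {n r : ℕ} (ψ : Y →* Equiv.Perm (Fin n)) (x₀ : Fin n) (hn : 1 < n)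
    (htr : ∀ x, ∃ g, ψ g x₀ = x) (H : Subgroup Y) (hH : ∀ a ∈ H, ψ a x₀ = x₀)
    (reps : Fin r → Fin n) (sizes : Fin r → ℕ)
    (hsz : ∀ j, {y | ∃ a ∈ H, ψ a (reps j) = y}.ncard = sizes j)
    (hcover : ∀ y, y = x₀ ∨ ∃ j, ∃ a ∈ H, ψ a (reps j) = y) (hsum : 1 + ∑ j, sizes j = n)
    (hdiv : ∀ J : Finset (Fin r), 1 + ∑ j ∈ J, sizes j ∣ n → J = ∅ ∨ J = Finset.univ)
    (x : Fin n) : IsCoatom (stab ψ x) := by
  have hidx := index_stab ψ x₀ htr
  have base : IsCoatom (stab ψ x₀) := by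
    refine ⟨fun h => ?_, fun M hM => ?_⟩
    · rw [h, Subgroup.index_top] at hidx
      omega
    have hle : stab ψ x₀ ≤ M := hM.le
    have hMH : ∀ a ∈ H, a ∈ M := fun a ha => hle (mem_stab.2 (hH a ha))
    let O : Set (Fin n) := {y | ∃ m ∈ M, ψ m x₀ = y}
    have h0 : x₀ ∈ O := ⟨1, M.one_mem, by rw [map_one]; rfl⟩
    have hinv : ∀ a ∈ H, ∀ y ∈ O, ψ a y ∈ O := by
      rintro a ha _ ⟨m, hm, rfl⟩
      exact ⟨a * m, M.mul_mem (hMH a ha) hm, by rw [map_mul]; rfl⟩
    have hO : O.ncard ∣ n := by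
      letI : MulAction M (Fin n) := MulAction.compHom (Fin n) (ψ.comp M.subtype)
      have hs : MulAction.stabilizer M x₀ = (stab ψ x₀).subgroupOf M := rfl
      have ho : MulAction.orbit M x₀ = O := by
        ext y
        exact ⟨fun ⟨m, hm⟩ => ⟨m.1, m.2, hm⟩, fun ⟨m, hm, hy⟩ => ⟨⟨m, hm⟩, hy⟩⟩
      have h1 := MulAction.index_stabilizer M x₀
      rw [hs, ho] at h1
      rw [← h1]
      conv_rhs => rw [← hidx]
      exact Subgroup.relIndex_dvd_index_of_le hle
    rcases no_block ψ x₀ reps sizes hsz hcover hsum hdiv O h0 hinv hO with h | h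
    · exfalso
      refine hM.not_ge fun m hm => mem_stab.2 ?_
      have : ψ m x₀ ∈ O := ⟨m, hm, rfl⟩
      rw [h] at this
      exact this
    · rw [eq_top_iff]
      intro g _
      obtain ⟨m, hm, he⟩ : ψ g x₀ ∈ O := h ▸ Set.mem_univ _
      have : m⁻¹ * g ∈ stab ψ x₀ := by
        rw [mem_stab, map_mul, map_inv, Equiv.Perm.mul_apply, ← he, Equiv.Perm.inv_def,
          Equiv.symm_apply_apply]
      have := M.mul_mem hm (hle this)
      rwa [mul_inv_cancel_left] at this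
  obtain ⟨g, rfl⟩ := htr x
  have e : (MulAut.conj g).mapSubgroup (stab ψ x₀) = stab ψ (ψ g x₀) := by
    ext a
    simp only [MulEquiv.coe_mapSubgroup, Subgroup.mem_map, MulEquiv.coe_toMonoidHom,
      MulAut.conj_apply, mem_stab]
    constructor
    · rintro ⟨b, hb, rfl⟩
      simp [map_mul, map_inv, hb]
    · intro ha
      refine ⟨g⁻¹ * a * g, ?_, by group⟩
      simp [map_mul, map_inv, ha]
  rw [← e]
  exact ((MulAut.conj g).mapSubgroup.isCoatom_iff _).2 base

/-- Restriction of an action to an invariant set of points. -/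
theorem exists_restrict' {G : Type*} [Group G] {N n : ℕ} (π : G →* Equiv.Perm (Fin N))
    (Z : Subgroup G) (f : Fin n → Fin N) (hf : Function.Injective f)
    (hinv : ∀ a ∈ Z, ∀ j, ∃ k, π a (f j) = f k) :
    ∃ ψ : Z →* Equiv.Perm (Fin n), ∀ (a : Z) (j : Fin n), f (ψ a j) = π a.1 (f j) := by
  choose k hk using fun (a : Z) (j : Fin n) => hinv a.1 a.2 j
  have hone : ∀ j, k 1 j = j := fun j => hf (by rw [← hk]; simp)
  have hmul : ∀ a b j, k (a * b) j = k a (k b j) := fun a b j => hf (by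
    rw [← hk, ← hk, ← hk, Subgroup.coe_mul, map_mul, Equiv.Perm.mul_apply])
  let ψ : Z → Equiv.Perm (Fin n) := fun a =>
    ⟨k a, k a⁻¹, fun j => by rw [← hmul, inv_mul_cancel, hone],
      fun j => by rw [← hmul, mul_inv_cancel, hone]⟩
  exact ⟨MonoidHom.mk' ψ (fun a b => Equiv.ext fun j => hmul a b j), fun a j => (hk a j).symm⟩

/-- The property is invariant under isomorphisms. -/
theorem transport {P Q : Type*} [Group P] [Group Q] (e : P ≃* Q) (K : Subgroup P)
    (h1 : IsCoatom K) (h2 : Cfsg.Spor.IsoJ2 K)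
    (h3 : ∀ x : P, x ∉ K → IsCoatom ((K ⊓ K.map (MulAut.conj x).toMonoidHom).subgroupOf K)) :
    ∃ H : Subgroup Q, IsCoatom H ∧ Cfsg.Spor.IsoJ2 H ∧
      ∀ x : Q, x ∉ H → IsCoatom ((H ⊓ H.map (MulAut.conj x).toMonoidHom).subgroupOf H) := by
  refine ⟨K.map e.toMonoidHom, (e.mapSubgroup.isCoatom_iff K).2 h1, ?_, fun x hx => ?_⟩
  · obtain ⟨f⟩ := h2
    exact ⟨(e.subgroupMap K).symm.trans f⟩
  obtain ⟨y, rfl⟩ := e.surjective x
  have hy : y ∉ K := fun h => hx ⟨y, h, rfl⟩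
  have hmap : (K.map e.toMonoidHom).map (MulAut.conj (e y)).toMonoidHom =
      (K.map (MulAut.conj y).toMonoidHom).map e.toMonoidHom := by
    rw [Subgroup.map_map, Subgroup.map_map]
    congr 1
    ext a
    simp
  have key : ((K.map e.toMonoidHom) ⊓ (K.map e.toMonoidHom).map (MulAut.conj (e y)).toMonoidHom).subgroupOf
      (K.map e.toMonoidHom) =
      (e.subgroupMap K).mapSubgroup ((K ⊓ K.map (MulAut.conj y).toMonoidHom).subgroupOf K) := by
    rw [hmap, ← Subgroup.map_inf _ _ _ e.injective]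
    ext ⟨a, ha⟩
    obtain ⟨b, hb, rfl⟩ := ha
    constructor
    · rintro ⟨c, hc, hce⟩
      obtain rfl : c = b := e.injective hce
      exact ⟨⟨c, hb⟩, hc, Subtype.ext rfl⟩
    · rintro ⟨⟨c, hc⟩, hcm, hce⟩
      exact ⟨c, hcm, congrArg Subtype.val hce⟩
  rw [key]
  exact ((e.subgroupMap K).mapSubgroup.isCoatom_iff _).2 (h3 y hy)

end Cfsg.Agent.Lib.G24J2
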