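import Cfsg.Agent.Lib.G24J2.Blocks
import Cfsg.Agent.Lib.G24J2.Data
import Cfsg.Agent.Lib.CosetEnum.Restrict
import Cfsg.Agent.Lib.CosetEnum.G24Rep.Hom
import Cfsg.Agent.Lib.G24.Transport
import Cfsg.Agent.Lib.G24.Spectrum
import Cfsg.Agent.Lib.SporJ2.Group

/-! The extremely primitive action of G2(4) on the 416 cosets of the Hall-Janko group. -/

set_option autoImplicit false
set_option maxRecDepth 20000
set_option Elab.async false

namespace Cfsg.Agent.Lib.G24J2

open Cfsg.Agent.Lib.CosetEnum Cfsg.Agent.Lib.G24 Cfsg.Agent.Lib.SporJ2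

local notation "PG" => PresentedGroup SuzSub.pres
local notation "SL" => SuzSub.letters
local notation "φ" => Letters.phi SuzSub.letters SuzSub.pres

theorem perm_ok : permOK (SL).K (SL).IV 416 table = true := by decide +kernel

theorem rels_ok : relsOK (SL).K 416 table (SL).RL = true := by decide +kernel

theorem table_ok : TableOK SL 416 table where
  col := SuzSub.letters_col
  symcol := by
    intro g hg
    left
    have hg' : g < 6 := hg
    interval_cases g <;> exact ⟨by decide +kernel, by decide +kernel⟩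
  invol := by decide +kernel
  perm := perm_ok
  rel l hl i hi := relsOK_rel rels_ok hi hl

/-- All letters. -/
def allWords : List (List ℕ) := [[0], [1], [2], [3], [4], [5]]

theorem orbG_ok : orbitOK (SL).K 416 table allWords orbGPts orbGPos orbGTree 416 = true := by
  decide +kernel

theorem orbA_ok : orbitOK (SL).K 416 table kWords orbAPts orbAPos orbATree 100 = true := by
  decide +kernel

theorem orbB_ok : orbitOK (SL).K 416 table kWords orbBPts orbBPos orbBTree 315 = true := by
  decide +kernel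

theorem subA1_ok : orbitOK (SL).K 416 table stabAWords subA1Pts subA1Pos subA1Tree 63 = true := by
  decide +kernel

theorem subA2_ok : orbitOK (SL).K 416 table stabAWords subA2Pts subA2Pos subA2Tree 36 = true := by
  decide +kernel

theorem subB1_ok : orbitOK (SL).K 416 table stabBWords subB1Pts subB1Pos subB1Tree 160 = true := by
  decide +kernel

theorem subB2_ok : orbitOK (SL).K 416 table stabBWords subB2Pts subB2Pos subB2Tree 10 = true := by
  decide +kernel

theorem subB3_ok : orbitOK (SL).K 416 table stabBWords subB3Pts subB3Pos subB3Tree 32 = true := by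
  decide +kernel

theorem subB4_ok : orbitOK (SL).K 416 table stabBWords subB4Pts subB4Pos subB4Tree 80 = true := by
  decide +kernel

theorem subB5_ok : orbitOK (SL).K 416 table stabBWords subB5Pts subB5Pos subB5Tree 32 = true := by
  decide +kernel

theorem words_lt : (∀ l ∈ allWords, ∀ g ∈ l, g < (SL).K) ∧ (∀ l ∈ kWords, ∀ g ∈ l, g < (SL).K) ∧
    (∀ l ∈ stabAWords, ∀ g ∈ l, g < (SL).K) ∧ ∀ l ∈ stabBWords, ∀ g ∈ l, g < (SL).K := by
  decide +kernel

theorem words_fix : (∀ l ∈ kWords, scan (SL).K table l 0 = 0) ∧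
    (∀ l ∈ stabAWords, scan (SL).K table l 0 = 0 ∧ scan (SL).K table l 3 = 3) ∧
    ∀ l ∈ stabBWords, scan (SL).K table l 0 = 0 ∧ scan (SL).K table l 1 = 1 := by
  decide +kernel

/-- Membership in a listed orbit. -/
noncomputable def inOrb (n : ℕ) (Q pos : PTree) (q : ℕ) : Bool :=
  force (get32 pos q) fun p => Nat.blt p n && Nat.beq (get32 Q p) q

theorem cover_ok : (allBelow 416 fun q => Nat.beq q 0 || inOrb 100 orbAPts orbAPos q ||
    inOrb 315 orbBPts orbBPos q) = true := by decide +kernel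

theorem coverA_ok : (allBelow 100 fun j => force (get32 orbAPts j) fun q => Nat.beq q 3 ||
    inOrb 63 subA1Pts subA1Pos q || inOrb 36 subA2Pts subA2Pos q) = true := by decide +kernel

theorem coverB_ok : (allBelow 315 fun j => force (get32 orbBPts j) fun q => Nat.beq q 1 ||
    inOrb 160 subB1Pts subB1Pos q || inOrb 10 subB2Pts subB2Pos q || inOrb 32 subB3Pts subB3Pos q ||
    inOrb 80 subB4Pts subB4Pos q || inOrb 32 subB5Pts subB5Pos q) = true := by decide +kernel

theorem pts100_ok : (allBelow 100 fun j => force (get32 pts100 j) fun q => Nat.blt q 416 &&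
    Nat.beq (get32 idx100 q) j && inOrb 100 orbAPts orbAPos q) = true := by decide +kernel

theorem orbA_pts100 : (allBelow 100 fun j => force (get32 orbAPts j) fun q =>
    inOrb 100 pts100 idx100 q) = true := by decide +kernel

theorem gens_ok : (List.range 4).all (fun g => (List.range 100).all fun j =>
    Nat.beq (scan (SL).K table (kWords.getD g []) (get32 pts100 j))
      (get32 pts100 (Cfsg.Agent.Lib.Computation.getW 7 (gens100.getD g 0) j))) = true := by
  decide +kernel

theorem gens100_ok : (∀ c ∈ gens100, Cfsg.Agent.Lib.Computation.okPerm 100 7 c = true) ∧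
    gens100.length = 4 ∧ kWords.length = 4 := by decide +kernel

theorem inOrb_iff {n : ℕ} {Q pos : PTree} {q : ℕ} :
    inOrb n Q pos q = true ↔ get32 pos q < n ∧ get32 Q (get32 pos q) = q := by
  simp [inOrb]

theorem sum_arith100 : ∀ J : Finset (Fin 2), 1 + ∑ j ∈ J, ![63, 36] j ∣ 100 →
    J = ∅ ∨ J = Finset.univ := by decide +kernel

theorem sum_arith315 : ∀ J : Finset (Fin 5), 1 + ∑ j ∈ J, ![160, 10, 32, 80, 32] j ∣ 315 →
    J = ∅ ∨ J = Finset.univ := by decide +kernel

theorem sum_arith416 : ∀ J : Finset (Fin 2), 1 + ∑ j ∈ J, ![100, 315] j ∣ 416 →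
    J = ∅ ∨ J = Finset.univ := by decide +kernel

theorem subOf_le {W : List (List ℕ)} {S : Subgroup PG}
    (h : ∀ l ∈ W, (l.map φ).prod ∈ S) : subOf SL SuzSub.pres W ≤ S := by
  rw [subOf, Subgroup.closure_le]
  rintro _ ⟨l, hl, rfl⟩
  exact h l hl

/-- A primitive suborbit gives maximality of two-point stabilisers. -/
theorem isCoatom_suborbit {n r : ℕ} (π : PG →* Equiv.Perm (Fin 416)) (Z : Subgroup PG)
    (f : Fin n → Fin 416) (hf : Function.Injective f) (x₀ : Fin n) (hn : 1 < n)
    (hor : ∀ y, (∃ a ∈ Z, π a (f x₀) = y) ↔ ∃ j, f j = y)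
    (W : List (List ℕ)) (hWZ : subOf SL SuzSub.pres W ≤ Z)
    (hW : ∀ a ∈ subOf SL SuzSub.pres W, π a (f x₀) = f x₀)
    (reps : Fin r → Fin 416) (sizes : Fin r → ℕ)
    (hreps : ∀ j, ∃ k, f k = reps j)
    (hsz : ∀ j, {y | ∃ a ∈ subOf SL SuzSub.pres W, π a (reps j) = y}.ncard = sizes j)
    (hcover : ∀ k, k = x₀ ∨ ∃ j, ∃ a ∈ subOf SL SuzSub.pres W, π a (reps j) = f k)
    (hsum : 1 + ∑ j, sizes j = n)
    (hdiv : ∀ J : Finset (Fin r), 1 + ∑ j ∈ J, sizes j ∣ n → J = ∅ ∨ J = Finset.univ)
    (y : Fin n) : ∀ M : Subgroup Z, (∀ a : Z, a ∈ M ↔ π a.1 (f y) = f y) → IsCoatom M := by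
  intro M hM
  have hinv : ∀ a ∈ Z, ∀ j, ∃ k, π a (f j) = f k := by
    intro a ha j
    obtain ⟨b, hb, hbe⟩ := (hor (f j)).2 ⟨j, rfl⟩
    obtain ⟨k, hk⟩ := (hor (π a (f j))).1 ⟨a * b, Z.mul_mem ha hb, by
      rw [map_mul, Equiv.Perm.mul_apply, hbe]⟩
    exact ⟨k, hk.symm⟩
  obtain ⟨ψ, hψ⟩ := exists_restrict' π Z f hf hinv
  choose reps' hreps' using hreps
  have himg : ∀ j, f '' {k | ∃ a ∈ (subOf SL SuzSub.pres W).subgroupOf Z, ψ a (reps' j) = k} =
      {y | ∃ a ∈ subOf SL SuzSub.pres W, π a (reps j) = y} := by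
    intro j
    ext w
    constructor
    · rintro ⟨_, ⟨a, ha, rfl⟩, rfl⟩
      exact ⟨a.1, ha, by rw [hψ, hreps']⟩
    · rintro ⟨a, ha, rfl⟩
      exact ⟨_, ⟨⟨a, hWZ ha⟩, ha, rfl⟩, by rw [hψ, hreps']⟩
  have h := isCoatom_stab ψ x₀ hn ?_ ((subOf SL SuzSub.pres W).subgroupOf Z) ?_ reps' sizes
    (fun j => by rw [← hsz j, ← himg j, Set.ncard_image_of_injective _ hf]) ?_ hsum hdiv y
  · have : M = stab ψ y := by
      ext a
      rw [hM, mem_stab, ← hψ]
      exact hf.eq_iff
    rwa [this]
  · intro k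
    obtain ⟨a, ha, hak⟩ := (hor (f k)).2 ⟨k, rfl⟩
    exact ⟨⟨a, ha⟩, hf (by rw [hψ]; exact hak)⟩
  · intro a ha
    exact hf (by rw [hψ]; exact hW a.1 ha)
  · intro k
    rcases hcover k with h | ⟨j, a, ha, hak⟩
    · exact Or.inl h
    · exact Or.inr ⟨j, ⟨a, hWZ ha⟩, ha, hf (by rw [hψ, hreps']; exact hak)⟩

/-- The statement for the presented copy of G2(4). -/
theorem exists_presented (π : PG →* Equiv.Perm (Fin 416))
    (hπ : ∀ g < (SL).K, ∀ i : Fin 416, ((π (φ g))⁻¹ i).1 = get32 table (i.1 * (SL).K + g))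
    (hcard : Nat.card PG = 251596800) :
    ∃ K : Subgroup PG, IsCoatom K ∧ Cfsg.Spor.IsoJ2 K ∧
      ∀ x : PG, x ∉ K → IsCoatom ((K ⊓ K.map (MulAut.conj x).toMonoidHom).subgroupOf K) := by
  haveI : Finite PG := Nat.finite_of_card_ne_zero (by rw [hcard]; omega)
  let z : Fin 416 := ⟨0, by omega⟩
  have hfix : ∀ (l : List ℕ) (p : Fin 416), (∀ g ∈ l, g < (SL).K) →
      scan (SL).K table l p.1 = p.1 → π (l.map φ).prod p = p := by
    intro l p hl h
    have e : (π (l.map φ).prod)⁻¹ p = p := Fin.ext ((scan_of_table π φ hπ l hl p).trans h)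
    calc π (l.map φ).prod p = π (l.map φ).prod ((π (l.map φ).prod)⁻¹ p) := by rw [e]
      _ = p := by simp
  obtain ⟨wG, wK, wA, wB⟩ := words_lt
  obtain ⟨fK, fA, fB⟩ := words_fix
  have spec := fun (W : List (List ℕ)) (hW : ∀ l ∈ W, ∀ g ∈ l, g < (SL).K) (Q pos R : PTree) (n : ℕ)
      (h : orbitOK (SL).K 416 table W Q pos R n = true) (x : Fin 416) (hn : 0 < n)
      (hx : get32 Q 0 = x.1) =>
    orbit_spec SL SuzSub.pres 416 table π hπ W hW Q pos R n h x hn hx
  -- transitivity and the stabiliser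
  have htr : ∀ y, ∃ g, π g z = y := by
    intro y
    have h := spec allWords wG orbGPts orbGPos orbGTree 416 orbG_ok z (by omega) (by decide +kernel)
    have hset : {y | ∃ a ∈ subOf SL SuzSub.pres allWords, π a z = y} = Set.univ := by
      rw [Set.eq_univ_iff_ncard, h.1, Nat.card_fin]
    obtain ⟨a, -, ha⟩ : y ∈ {y | ∃ a ∈ subOf SL SuzSub.pres allWords, π a z = y} :=
      hset ▸ Set.mem_univ y
    exact ⟨a, ha⟩
  set K : Subgroup PG := stab π z with hKdef
  have hidx : K.index = 416 := index_stab π z htr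
  have hKcard : Nat.card K = 604800 := by
    have := K.card_mul_index
    rw [hidx, hcard] at this
    omega
  have hkK : subOf SL SuzSub.pres kWords ≤ K :=
    subOf_le fun l hl => mem_stab.2 (hfix l z (wK l hl) (fK l hl))
  -- the suborbits
  have hA := spec kWords wK orbAPts orbAPos orbATree 100 orbA_ok (3 : Fin 416) (by omega)
    (by decide +kernel)
  have hB := spec kWords wK orbBPts orbBPos orbBTree 315 orbB_ok (1 : Fin 416) (by omega)
    (by decide +kernel)
  have hp : ∀ j : Fin 100, get32 pts100 j.1 < 416 := by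
    intro j
    have := allBelow_iff.1 pts100_ok j.1 j.2
    simp only [force_eq, Bool.and_eq_true, Nat.blt_eq] at this
    exact this.1.1
  let fA' : Fin 100 → Fin 416 := fun j => ⟨get32 pts100 j.1, hp j⟩
  have hfA : Function.Injective fA' := by
    intro a b hab
    have ha := allBelow_iff.1 pts100_ok a.1 a.2
    have hb := allBelow_iff.1 pts100_ok b.1 b.2
    simp only [force_eq, Bool.and_eq_true, Nat.beq_eq] at ha hb
    have e : get32 pts100 a.1 = get32 pts100 b.1 := congrArg Fin.val hab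
    exact Fin.ext (by rw [← ha.1.2, e, hb.1.2])
  -- K is the Hall-Janko group
  have horA : ∀ y, (∃ a ∈ subOf SL SuzSub.pres kWords, π a (3 : Fin 416) = y) ↔ ∃ j, fA' j = y := by
    intro y
    constructor
    · intro hy
      have e := hA.2.1 y hy
      have hlt : get32 orbAPos y.1 < 100 := by
        have h := allBelow_iff.1 cover_ok y.1 y.2
        by_contra hge
        obtain ⟨a, ha, rfl⟩ := hy
        have hmem : π a (3 : Fin 416) ∈ {y | ∃ a ∈ subOf SL SuzSub.pres kWords, π a (3 : Fin 416) = y} :=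
          ⟨a, ha, rfl⟩
        have hsub : {y | ∃ a ∈ subOf SL SuzSub.pres kWords, π a (3 : Fin 416) = y} =
            (fun j : Fin 100 => (⟨get32 pts100 j.1, hp j⟩ : Fin 416)) '' Set.univ := by
          symm
          refine Set.eq_of_subset_of_ncard_le ?_ ?_ (Set.toFinite _)
          · rintro _ ⟨j, -, rfl⟩
            have := allBelow_iff.1 pts100_ok j.1 j.2
            simp only [force_eq, Bool.and_eq_true, inOrb_iff] at this
            exact hA.2.2 _ this.2.1 _ this.2.2.symm
          · rw [Set.ncard_image_of_injective _ hfA, hA.1, Set.ncard_univ, Nat.card_fin]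
        rw [hsub] at hmem
        obtain ⟨j, -, hj⟩ := hmem
        have := allBelow_iff.1 pts100_ok j.1 j.2
        simp only [force_eq, Bool.and_eq_true, inOrb_iff] at this
        exact hge (by rw [← hj]; exact this.2.1)
      have h2 := allBelow_iff.1 orbA_pts100 _ hlt
      simp only [force_eq, inOrb_iff] at h2
      rw [e] at h2
      exact ⟨⟨_, h2.1⟩, Fin.ext h2.2⟩
    · rintro ⟨j, rfl⟩
      have := allBelow_iff.1 pts100_ok j.1 j.2
      simp only [force_eq, Bool.and_eq_true, inOrb_iff] at this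
      exact hA.2.2 _ this.2.1 _ this.2.2.symm
  have hinvA : ∀ a ∈ subOf SL SuzSub.pres kWords, ∀ j, ∃ k, π a (fA' j) = fA' k := by
    intro a ha j
    obtain ⟨b, hb, hbe⟩ := (horA (fA' j)).2 ⟨j, rfl⟩
    obtain ⟨k, hk⟩ := (horA (π a (fA' j))).1 ⟨a * b, mul_mem ha hb, by
      rw [map_mul, Equiv.Perm.mul_apply, hbe]⟩
    exact ⟨k, hk.symm⟩
  obtain ⟨ψ, hψ⟩ := exists_restrict' π (subOf SL SuzSub.pres kWords) fA' hfA hinvA
  have hK100 : K100 ≤ ψ.range := by
    rw [K100, Subgroup.closure_le]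
    rintro _ ⟨g, rfl⟩
    obtain ⟨hok, hlen, hklen⟩ := gens100_ok
    have hg : g.1 < kWords.length := by rw [hklen]; exact g.2
    have hl : kWords.getD g.1 [] ∈ kWords := by
      rw [List.getD_eq_getElem _ _ hg]; exact List.getElem_mem hg
    let a : subOf SL SuzSub.pres kWords :=
      ⟨((kWords.getD g.1 []).map φ).prod, Subgroup.subset_closure ⟨_, hl, rfl⟩⟩
    refine ⟨a⁻¹, ?_⟩
    apply Equiv.ext
    intro j
    apply hfA
    rw [hψ]
    apply Fin.ext
    have hcok : Cfsg.Agent.Lib.Computation.okPerm 100 7 (gens100.getD g.1 0) = true :=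
      hok _ (by rw [List.getD_eq_getElem _ _ (by rw [hlen]; exact g.2)]; exact List.getElem_mem _)
    have hc := List.all_eq_true.1 (List.all_eq_true.1 gens_ok g.1 (List.mem_range.2 g.2)) j.1
      (List.mem_range.2 j.2)
    rw [Nat.beq_eq] at hc
    rw [Subgroup.coe_inv, map_inv]
    refine (scan_of_table π φ hπ _ (wK _ hl) (fA' j)).trans (hc.trans ?_)
    show _ = get32 pts100 (perm100 g j).1
    rw [perm100, Cfsg.Agent.Lib.Computation.decodeP_apply hcok]
  have hJ : Nat.card (subOf SL SuzSub.pres kWords) ≤ 604800 :=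
    hKcard ▸ Subgroup.card_le_of_le hkK
  have hr : 604800 ≤ Nat.card ψ.range := card_K100 ▸ Subgroup.card_le_of_le hK100
  have hψsurj := Nat.card_le_card_of_surjective ψ.rangeRestrict ψ.rangeRestrict_surjective
  have hKeq : subOf SL SuzSub.pres kWords = K :=
    Subgroup.eq_of_le_of_card_ge hkK (by rw [hKcard]; omega)
  have hrange : ψ.range = K100 :=
    (Subgroup.eq_of_le_of_card_ge hK100 (by rw [card_K100]; omega)).symm
  have hinj : Function.Injective ψ :=
    injective_of_card ψ (B := 604800) ⟨Nat.card_pos.ne', hJ⟩ hr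
  have hiso : Cfsg.Spor.IsoJ2 K := by
    obtain ⟨eJ⟩ := exists_equiv_J2
    exact ⟨(MulEquiv.subgroupCongr hKeq.symm).trans ((MonoidHom.ofInjective hinj).trans
      ((MulEquiv.subgroupCongr hrange).trans eJ.symm))⟩
  rw [hKeq] at hA hB horA
  -- maximality
  have hmax : IsCoatom K := by
    refine isCoatom_stab π z (by omega) htr K (fun a ha => mem_stab.1 ha)
      ![(3 : Fin 416), (1 : Fin 416)] ![100, 315] ?_ ?_ (by decide +kernel) sum_arith416 z
    · intro j
      fin_cases j
      · exact hA.1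
      · exact hB.1
    · intro y
      have h := allBelow_iff.1 cover_ok y.1 y.2
      simp only [Bool.or_eq_true, Nat.beq_eq, inOrb_iff] at h
      rcases h with (h | h) | h
      · exact Or.inl (Fin.ext h)
      · exact Or.inr ⟨0, hA.2.2 _ h.1 y h.2.symm⟩
      · exact Or.inr ⟨1, hB.2.2 _ h.1 y h.2.symm⟩
  refine ⟨K, hmax, hiso, fun x hx => ?_⟩
  have hmem : ∀ a : K, a ∈ (K ⊓ K.map (MulAut.conj x).toMonoidHom).subgroupOf K ↔
      π a.1 (π x z) = π x z := by
    intro a
    rw [Subgroup.mem_subgroupOf, Subgroup.mem_inf]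
    constructor
    · rintro ⟨-, b, hb, hab⟩
      rw [← hab, MulEquiv.coe_toMonoidHom, MulAut.conj_apply]
      simp [map_mul, map_inv, mem_stab.1 hb]
    · intro ha
      refine ⟨a.2, x⁻¹ * a.1 * x, mem_stab.2 ?_, by
        rw [MulEquiv.coe_toMonoidHom, MulAut.conj_apply]; group⟩
      simp [map_mul, map_inv, ha]
  have hy0 : π x z ≠ z := fun h => hx (mem_stab.2 h)
  have hsubK : ∀ (W : List (List ℕ)), (∀ l ∈ W, ∀ g ∈ l, g < (SL).K) → ∀ p : Fin 416,
      (∀ l ∈ W, scan (SL).K table l 0 = 0 ∧ scan (SL).K table l p.1 = p.1) →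
      subOf SL SuzSub.pres W ≤ K ∧ ∀ a ∈ subOf SL SuzSub.pres W, π a p = p := by
    intro W hW p hf
    exact ⟨subOf_le fun l hl => mem_stab.2 (hfix l z (hW l hl) (hf l hl).1), fun a ha =>
      mem_stab.1 (subOf_le (S := stab π p) (fun l hl => mem_stab.2 (hfix l p (hW l hl) (hf l hl).2)) ha)⟩
  have hcov := allBelow_iff.1 cover_ok (π x z).1 (π x z).2
  simp only [Bool.or_eq_true, Nat.beq_eq, inOrb_iff] at hcov
  rcases hcov with (h | h) | h
  · exact absurd (Fin.ext h) hy0
  · obtain ⟨y, hy⟩ := (horA (π x z)).1 (hA.2.2 _ h.1 _ h.2.symm)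
    obtain ⟨x₀, hx₀⟩ := (horA (3 : Fin 416)).1 ⟨1, one_mem _, by rw [map_one]; rfl⟩
    obtain ⟨hWK, hWfix⟩ := hsubK stabAWords wA (3 : Fin 416) fA
    refine isCoatom_suborbit π K fA' hfA x₀ (by omega) (by rw [hx₀]; exact horA) stabAWords hWK
      (by rw [hx₀]; exact hWfix) ![(257 : Fin 416), (260 : Fin 416)] ![63, 36] ?_ ?_ ?_
      (by decide +kernel) sum_arith100 y _ (fun a => by rw [hmem, hy])
    · intro j
      refine (horA _).1 (hA.2.2 (get32 orbAPos (![(257 : Fin 416), (260 : Fin 416)] j : Fin 416).1) ?_ _ ?_)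
      · fin_cases j <;> decide +kernel
      · fin_cases j <;> decide +kernel
    · intro j
      fin_cases j
      · exact (spec stabAWords wA subA1Pts subA1Pos subA1Tree 63 subA1_ok (257 : Fin 416)
          (by omega) (by decide +kernel)).1
      · exact (spec stabAWords wA subA2Pts subA2Pos subA2Tree 36 subA2_ok (260 : Fin 416)
          (by omega) (by decide +kernel)).1
    · intro k
      obtain ⟨b, hb, hbk⟩ := (horA (fA' k)).2 ⟨k, rfl⟩
      have e := hA.2.1 (fA' k) ⟨b, hb, hbk⟩
      have hlt : get32 orbAPos (fA' k).1 < 100 := by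
        have := allBelow_iff.1 pts100_ok k.1 k.2
        simp only [force_eq, Bool.and_eq_true, inOrb_iff] at this
        exact this.2.1
      have h := allBelow_iff.1 coverA_ok _ hlt
      simp only [force_eq, Bool.or_eq_true, Nat.beq_eq, inOrb_iff, e] at h
      rcases h with (h | h) | h
      · exact Or.inl (hfA ((Fin.ext h).trans hx₀.symm))
      · exact Or.inr ⟨0, (spec stabAWords wA subA1Pts subA1Pos subA1Tree 63 subA1_ok
          (257 : Fin 416) (by omega) (by decide +kernel)).2.2 _ h.1 _ h.2.symm⟩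
      · exact Or.inr ⟨1, (spec stabAWords wA subA2Pts subA2Pos subA2Tree 36 subA2_ok
          (260 : Fin 416) (by omega) (by decide +kernel)).2.2 _ h.1 _ h.2.symm⟩
  · have hpB : ∀ j : Fin 315, get32 orbBPts j.1 < 416 ∧ get32 orbBPos (get32 orbBPts j.1) = j.1 := by
      intro j
      have := allBelow_iff.1 orbB_ok j.1 j.2
      simp only [force_eq, Bool.and_eq_true, Nat.blt_eq, Nat.beq_eq] at this
      exact this.1.1
    let fB' : Fin 315 → Fin 416 := fun j => ⟨get32 orbBPts j.1, (hpB j).1⟩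
    have hfB : Function.Injective fB' := by
      intro a b hab
      have e : get32 orbBPts a.1 = get32 orbBPts b.1 := congrArg Fin.val hab
      exact Fin.ext (by rw [← (hpB a).2, e, (hpB b).2])
    have horB : ∀ w, (∃ a ∈ K, π a (1 : Fin 416) = w) ↔ ∃ j, fB' j = w := by
      have hset : {w | ∃ a ∈ K, π a (1 : Fin 416) = w} = Set.range fB' := by
        symm
        refine Set.eq_of_subset_of_ncard_le ?_ ?_ (Set.toFinite _)
        · rintro _ ⟨j, rfl⟩
          exact hB.2.2 j.1 j.2 _ rfl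
        · rw [hB.1, Set.ncard_range_of_injective hfB, Nat.card_fin]
      exact fun w => Set.ext_iff.1 hset w
    obtain ⟨y, hy⟩ := (horB (π x z)).1 (hB.2.2 _ h.1 _ h.2.symm)
    obtain ⟨x₀, hx₀⟩ := (horB (1 : Fin 416)).1 ⟨1, one_mem _, by rw [map_one π]; rfl⟩
    obtain ⟨hWK, hWfix⟩ := hsubK stabBWords wB (1 : Fin 416) fB
    refine isCoatom_suborbit π K fB' hfB x₀ (by omega) (by rw [hx₀]; exact horB) stabBWords hWK
      (by rw [hx₀]; exact hWfix)
      ![(304 : Fin 416), (133 : Fin 416), (256 : Fin 416), (406 : Fin 416), (131 : Fin 416)]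
      ![160, 10, 32, 80, 32] ?_ ?_ ?_ (by decide +kernel) sum_arith315 y _ (fun a => by rw [hmem, hy])
    · intro j
      refine (horB _).1 (hB.2.2 (get32 orbBPos (![(304 : Fin 416), (133 : Fin 416), (256 : Fin 416),
        (406 : Fin 416), (131 : Fin 416)] j : Fin 416).1) ?_ _ ?_)
      · fin_cases j <;> decide +kernel
      · fin_cases j <;> decide +kernel
    · intro j
      fin_cases j
      · exact (spec stabBWords wB subB1Pts subB1Pos subB1Tree 160 subB1_ok (304 : Fin 416)
          (by omega) (by decide +kernel)).1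
      · exact (spec stabBWords wB subB2Pts subB2Pos subB2Tree 10 subB2_ok (133 : Fin 416)
          (by omega) (by decide +kernel)).1
      · exact (spec stabBWords wB subB3Pts subB3Pos subB3Tree 32 subB3_ok (256 : Fin 416)
          (by omega) (by decide +kernel)).1
      · exact (spec stabBWords wB subB4Pts subB4Pos subB4Tree 80 subB4_ok (406 : Fin 416)
          (by omega) (by decide +kernel)).1
      · exact (spec stabBWords wB subB5Pts subB5Pos subB5Tree 32 subB5_ok (131 : Fin 416)
          (by omega) (by decide +kernel)).1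
    · intro k
      have h := allBelow_iff.1 coverB_ok k.1 k.2
      simp only [force_eq, Bool.or_eq_true, Nat.beq_eq, inOrb_iff] at h
      rcases h with ((((h | h) | h) | h) | h) | h
      · exact Or.inl (hfB ((Fin.ext h : fB' k = (1 : Fin 416)).trans hx₀.symm))
      · exact Or.inr ⟨0, (spec stabBWords wB subB1Pts subB1Pos subB1Tree 160 subB1_ok
          (304 : Fin 416) (by omega) (by decide +kernel)).2.2 _ h.1 _ h.2.symm⟩
      · exact Or.inr ⟨1, (spec stabBWords wB subB2Pts subB2Pos subB2Tree 10 subB2_ok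
          (133 : Fin 416) (by omega) (by decide +kernel)).2.2 _ h.1 _ h.2.symm⟩
      · exact Or.inr ⟨2, (spec stabBWords wB subB3Pts subB3Pos subB3Tree 32 subB3_ok
          (256 : Fin 416) (by omega) (by decide +kernel)).2.2 _ h.1 _ h.2.symm⟩
      · exact Or.inr ⟨3, (spec stabBWords wB subB4Pts subB4Pos subB4Tree 80 subB4_ok
          (406 : Fin 416) (by omega) (by decide +kernel)).2.2 _ h.1 _ h.2.symm⟩
      · exact Or.inr ⟨4, (spec stabBWords wB subB5Pts subB5Pos subB5Tree 32 subB5_ok
          (131 : Fin 416) (by omega) (by decide +kernel)).2.2 _ h.1 _ h.2.symm⟩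

/-- G2(4) acts extremely primitively on the cosets of the Hall-Janko group. -/
theorem main {F : Type*} [Field F] [Fintype F] (hF : Fintype.card F = 4) :
    ∃ H : Subgroup (Cfsg.Lie.chevG2.group F), IsCoatom H ∧ Cfsg.Spor.IsoJ2 H ∧
      ∀ x : Cfsg.Lie.chevG2.group F, x ∉ H →
        IsCoatom ((H ⊓ H.map (MulAut.conj x).toMonoidHom).subgroupOf H) := by
  obtain ⟨e⟩ := G24Rep.nonempty_iso
  obtain ⟨π, hπ⟩ := exists_tableHom SL SuzSub.pres
    ⟨SuzSub.rels_mem, fun ψ h r hr => h r hr⟩ SuzSub.letters_ok table_ok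
  have hcard : Nat.card PG = 251596800 := (Nat.card_congr e.toEquiv).trans card_G6
  obtain ⟨K, h1, h2, h3⟩ := exists_presented π hπ hcard
  let f : K4 ≃+* F := FiniteField.ringEquivOfCardEq (K4.card_eq.trans hF.symm)
  exact transport ((e.trans equivGroup).trans (Transport.groupEquiv _ f)) K h1 h2 h3

end Cfsg.Agent.Lib.G24J2
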